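import Mathlib.Analysis.AbsoluteValue.Equivalence
import Mathlib.RingTheory.DedekindDomain.AdicValuation
import Mathlib.RingTheory.DiscreteValuationRing.Basic
import Mathlib.RingTheory.DiscreteValuationRing.TFAE
import Mathlib.RingTheory.Valuation.ValuationRing
import Mathlib.RingTheory.KrullDimension.Field

/-!
# Weak approximation for finitely many discrete valuation rings in a field
-/

set_option autoImplicit false

universe u

open IsLocalRing
open scoped NNReal

namespace Groth.Agent.WeakApprox

theorem isDVR_of_dim_one (A : Type u) [CommRing A] [IsDomain A] [IsLocalRing A] [IsNoetherianRing A]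
    [IsIntegrallyClosed A] (h : ringKrullDim A = 1) : IsDiscreteValuationRing A := by
  have hf : ¬ IsField A := fun hf => by
    letI := hf.toField
    rw [ringKrullDim_eq_zero_of_field] at h
    exact zero_ne_one h
  haveI : Ring.KrullDimLE 1 A := Ring.krullDimLE_iff.2 h.le
  haveI : Ring.DimensionLEOne A := ⟨fun {p} hp hpp =>
    (Ring.krullDimLE_one_iff_of_noZeroDivisors.1 inferInstance p hp hpp)⟩
  haveI : IsDedekindRing A := {}
  haveI : IsDedekindDomain A := {}
  have h3 := ((IsDiscreteValuationRing.TFAE A hf).out 0 2 : IsDiscreteValuationRing A ↔ IsDedekindDomain A)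
  exact h3.2 inferInstance

variable {A : Type u} [CommRing A] [IsDomain A] [IsDiscreteValuationRing A] {K : Type u} [Field K] [Algebra A K]
  [IsFractionRing A K]

/-- The maximal ideal as a height one prime. -/
def maxPrime (A : Type u) [CommRing A] [IsDomain A] [IsDiscreteValuationRing A] :
    IsDedekindDomain.HeightOneSpectrum A :=
  ⟨IsLocalRing.maximalIdeal A, inferInstance, IsDiscreteValuationRing.not_a_field A⟩

/-- The absolute value of a discrete valuation ring. -/
noncomputable def absVal (A : Type u) [CommRing A] [IsDomain A] [IsDiscreteValuationRing A] (K : Type u) [Field K]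
    [Algebra A K] [IsFractionRing A K] : AbsoluteValue K ℝ :=
  (maxPrime A).adicAbv (show (1 : ℝ≥0) < 2 by norm_num)

theorem absVal_le_one (a : A) : absVal A K (algebraMap A K a) ≤ 1 := by
  show ((maxPrime A).adicAbv _ (algebraMap A K a) : ℝ) ≤ 1
  exact (maxPrime A).adicAbv_coe_le_one _ a

theorem absVal_lt_one {a : A} (ha : ¬ IsUnit a) : absVal A K (algebraMap A K a) < 1 :=
  ((maxPrime A).adicAbv_coe_lt_one_iff _ a).2 ha

theorem mem_range_of_le_one {x : K} (h : absVal A K x ≤ 1) : ∃ a, algebraMap A K a = x := by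
  by_cases hx : x = 0
  · exact ⟨0, by rw [map_zero, hx]⟩
  rcases ValuationRing.isInteger_or_isInteger A x with ⟨a, ha⟩ | ⟨a, ha⟩
  · exact ⟨a, ha⟩
  · by_cases hu : IsUnit a
    · refine ⟨↑hu.unit⁻¹, ?_⟩
      rw [← inv_inv x, ← ha]
      exact eq_inv_of_mul_eq_one_left (by rw [← map_mul, IsUnit.val_inv_mul, map_one])
    · exfalso
      have h1 := absVal_lt_one (K := K) hu
      rw [ha, map_inv₀, inv_lt_one_iff₀] at h1
      rcases h1 with h1 | h1
      · exact absurd h1 (not_le.2 ((absVal A K).pos hx))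
      · exact absurd h (not_le.2 h1)

theorem exists_unit_mul {ϖ : K} {f : K} (hϖ : ϖ ≠ 0) (h : absVal A K (f - ϖ) < absVal A K ϖ) :
    ∃ w : Aˣ, f = algebraMap A K w * ϖ := by
  have h1 : absVal A K ((f - ϖ) / ϖ) < 1 := by
    rw [map_div₀, div_lt_one ((absVal A K).pos hϖ)]; exact h
  obtain ⟨a, ha⟩ := mem_range_of_le_one h1.le
  have hna : ¬ IsUnit a := by
    intro hu
    have h2 : absVal A K (algebraMap A K a) * absVal A K (algebraMap A K ↑hu.unit⁻¹) = 1 := by
      rw [← map_mul, ← map_mul, IsUnit.mul_val_inv, map_one, map_one]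
    rw [ha] at h2
    nlinarith [absVal_le_one (K := K) (↑hu.unit⁻¹ : A), (absVal A K).nonneg ((f - ϖ) / ϖ),
      (absVal A K).nonneg (algebraMap A K ↑hu.unit⁻¹)]
  have hu : IsUnit (1 + a) := by
    have : ¬ IsUnit (-a) := by rwa [IsUnit.neg_iff]
    simpa using IsLocalRing.isUnit_one_sub_self_of_mem_nonunits (-a) this
  refine ⟨hu.unit, ?_⟩
  rw [IsUnit.unit_spec, map_add, map_one, ha]
  field_simp
  ring

theorem absVal_isNontrivial : (absVal A K).IsNontrivial := by
  obtain ⟨ϖ, hϖ⟩ := IsDiscreteValuationRing.exists_irreducible A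
  exact ⟨algebraMap A K ϖ, (map_ne_zero_iff _ (IsFractionRing.injective A K)).2 hϖ.ne_zero,
    (absVal_lt_one hϖ.not_isUnit).ne⟩

theorem range_eq_of_isEquiv {B : Type u} [CommRing B] [IsDomain B] [IsDiscreteValuationRing B] [Algebra B K]
    [IsFractionRing B K] (h : (absVal A K).IsEquiv (absVal B K)) :
    (algebraMap A K).range = (algebraMap B K).range := by
  ext x
  constructor
  · rintro ⟨a, rfl⟩
    exact mem_range_of_le_one (h.le_one_iff.1 (absVal_le_one a))
  · rintro ⟨b, rfl⟩
    exact mem_range_of_le_one (h.le_one_iff.2 (absVal_le_one b))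

/-- Weak approximation: prescribed orders at finitely many distinct discrete valuation rings. -/
theorem exists_prescribed {ι : Type} [Finite ι] {A : ι → Type u} [∀ i, CommRing (A i)] [∀ i, IsDomain (A i)]
    [∀ i, IsDiscreteValuationRing (A i)] {K : Type u} [Field K] [∀ i, Algebra (A i) K] [∀ i, IsFractionRing (A i) K]
    (hne : Pairwise fun i j => (algebraMap (A i) K).range ≠ (algebraMap (A j) K).range)
    (t : ι → K) (ht : ∀ i, t i ≠ 0) :
    ∃ f : K, ∀ i, ∃ w : (A i)ˣ, f = algebraMap (A i) K w * t i := by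
  classical
  have := Fintype.ofFinite ι
  rcases isEmpty_or_nonempty ι with hι | hι
  · exact ⟨0, fun i => hι.elim i⟩
  have hv : Pairwise fun i j => ¬ (absVal (A i) K).IsEquiv (absVal (A j) K) := fun i j hij h =>
    hne hij (range_eq_of_isEquiv h)
  have hd := AbsoluteValue.denseRange_algebraMap_pi (v := fun i => absVal (A i) K) (fun i => absVal_isNontrivial) hv
  obtain ⟨r, hr, hrt⟩ : ∃ r : ℝ, 0 < r ∧ ∀ i, r ≤ absVal (A i) K (t i) := by
    obtain ⟨i₀, -, hmin⟩ := Finset.exists_min_image Finset.univ (fun i => absVal (A i) K (t i)) Finset.univ_nonempty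
    exact ⟨_, (absVal (A i₀) K).pos (ht i₀), fun i => hmin i (Finset.mem_univ i)⟩
  obtain ⟨f, hf⟩ := Metric.denseRange_iff.1 hd (fun i => WithAbs.toAbs _ (t i)) r hr
  refine ⟨f, fun i => exists_unit_mul (ht i) ?_⟩
  have h1 := lt_of_le_of_lt (dist_le_pi_dist _ _ i) hf
  rw [dist_comm, dist_eq_norm] at h1
  have h2 : absVal (A i) K (f - t i) < r := by
    refine lt_of_eq_of_lt ?_ h1
    rw [← WithAbs.norm_toAbs_eq (absVal (A i) K) (f - t i)]
    rfl
  exact h2.trans_le (hrt i)

end Groth.Agent.WeakApprox
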